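import Groth.Agent.EtaleAlgebra.PairNoeth

/-! Completions of quotients of henselizations of pairs. -/

set_option autoImplicit false
universe u

namespace Groth.Misc12.HensQuot

open Hens2 Groth.HensPair Groth.EtaleAlgebra

theorem completion_equiv_of_quot_bijective {A R S : Type u} [CommRing A] [CommRing R] [CommRing S]
    [Algebra A R] [Algebra A S] (φ : R →ₐ[A] S) (I : Ideal R) (J : Ideal S) (hJ : J = I.map φ.toRingHom)
    (hs : ∀ (n : ℕ) (y : S), ∃ x : R, y - φ x ∈ J ^ n)
    (hi : ∀ (n : ℕ) (x : R), φ x ∈ J ^ n → x ∈ I ^ n) :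
    Nonempty (AdicCompletion I R ≃ₐ[A] AdicCompletion J S) := by
  subst hJ
  have hle : ∀ n : ℕ, I ^ n ≤ Ideal.comap φ.toRingHom ((I.map φ.toRingHom) ^ n) := fun n => by
    rw [← Ideal.map_pow]; exact Ideal.le_comap_map
  let e : ∀ n : ℕ, (R ⧸ I ^ n) ≃+* (S ⧸ (I.map φ.toRingHom) ^ n) := fun n =>
    RingEquiv.ofBijective (Ideal.quotientMap _ φ.toRingHom (hle n)) ⟨by
      rw [injective_iff_map_eq_zero]
      intro y hy
      obtain ⟨x, rfl⟩ := Ideal.Quotient.mk_surjective y
      rw [Ideal.quotientMap_mk, Ideal.Quotient.eq_zero_iff_mem] at hy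
      exact Ideal.Quotient.eq_zero_iff_mem.2 (hi n x hy), fun y => by
      obtain ⟨y, rfl⟩ := Ideal.Quotient.mk_surjective y
      obtain ⟨x, hx⟩ := hs n y
      refine ⟨Ideal.Quotient.mk _ x, ?_⟩
      rw [Ideal.quotientMap_mk]
      exact (Ideal.Quotient.eq.2 hx).symm⟩
  have hcompat : ∀ {m n : ℕ} (h : m ≤ n) (q : R ⧸ I ^ n),
      Ideal.Quotient.factorPow (I.map φ.toRingHom) h (e n q) = e m (Ideal.Quotient.factorPow I h q) := by
    intro m n h q
    obtain ⟨a, rfl⟩ := Ideal.Quotient.mk_surjective q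
    rfl
  have hev : ∀ {R : Type u} [CommRing R] (K : Ideal R) {m n : ℕ} (h : m ≤ n) (x : AdicCompletion K R),
      Ideal.Quotient.factorPow K h (AdicCompletion.evalₐ K n x) = AdicCompletion.evalₐ K m x := by
    intro R _ K m n h x
    obtain ⟨y, rfl⟩ := AdicCompletion.mk_surjective K R x
    simp only [AdicCompletion.evalₐ_mk, Ideal.Quotient.factor_mk]
    exact AdicCompletion.Ideal.mk_eq_mk _ h y
  let J := I.map φ.toRingHom
  let F := fun n => (e n).toRingHom.comp (AdicCompletion.evalₐ I n).toRingHom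
  let G := fun n => (e n).symm.toRingHom.comp (AdicCompletion.evalₐ J n).toRingHom
  have hF : ∀ {m n : ℕ} (h : m ≤ n), (Ideal.Quotient.factorPow J h).comp (F n) = F m :=
    fun {m n} h => RingHom.ext fun x => (hcompat h _).trans (congrArg (e m) (hev I h x))
  have hG : ∀ {m n : ℕ} (h : m ≤ n), (Ideal.Quotient.factorPow I h).comp (G n) = G m :=
    fun {m n} h => RingHom.ext fun x => (e m).injective <| by
      show e m (Ideal.Quotient.factorPow I h ((e n).symm (AdicCompletion.evalₐ J n x))) =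
        e m ((e m).symm (AdicCompletion.evalₐ J m x))
      rw [← hcompat h, (e n).apply_symm_apply, (e m).apply_symm_apply, hev J h x]
  let f := AdicCompletion.liftRingHom J F hF
  let g := AdicCompletion.liftRingHom I G hG
  have h1 : g.comp f = RingHom.id _ := RingHom.ext fun x => AdicCompletion.ext_evalₐ fun n => by
    refine (AdicCompletion.evalₐ_liftRingHom I G hG n _).trans ?_
    exact (congrArg (e n).symm (AdicCompletion.evalₐ_liftRingHom J F hF n _)).trans
      ((e n).symm_apply_apply _)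
  have h2 : f.comp g = RingHom.id _ := RingHom.ext fun x => AdicCompletion.ext_evalₐ fun n => by
    refine (AdicCompletion.evalₐ_liftRingHom J F hF n _).trans ?_
    exact (congrArg (e n) (AdicCompletion.evalₐ_liftRingHom I G hG n _)).trans
      ((e n).apply_symm_apply _)
  refine ⟨AlgEquiv.ofRingEquiv (f := RingEquiv.ofRingHom f g h2 h1) fun a => AdicCompletion.ext_evalₐ fun n => ?_⟩
  show AdicCompletion.evalₐ J n (f _) = _
  refine (AdicCompletion.evalₐ_liftRingHom J F hF n _).trans ?_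
  exact congrArg (Ideal.Quotient.mk (J ^ n)) (φ.commutes a)

theorem exists_finiteType_completion {A C : Type u} [CommRing A] [IsNoetherianRing A] (I : Ideal A)
    [CommRing C] [Algebra A C] [Algebra.FiniteType A C] {Ch : Type u} [CommRing Ch] [Algebra C Ch]
    [Algebra A Ch] [IsScalarTower A C Ch]
    (hCh : IsPairHenselization C (I.map (algebraMap A C)) Ch) (J : Ideal Ch) :
    ∃ (B : Type u) (_ : CommRing B) (_ : Algebra A B), Algebra.FiniteType A B ∧
      Nonempty (AdicCompletion (I.map (algebraMap A B)) B ≃ₐ[A]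
        AdicCompletion (I.map (algebraMap A (Ch ⧸ J))) (Ch ⧸ J)) := by
  have : IsNoetherianRing C := Algebra.FiniteType.isNoetherianRing A C
  have := isNoetherianRing_of_isPairHenselization hCh
  obtain ⟨s, hs⟩ := IsNoetherian.noetherian J
  obtain ⟨e⟩ := nonempty_algEquiv_hz hCh
  obtain ⟨i, y, hy⟩ := Groth.HensPair.exists_of_fintype (I := I.map (algebraMap A C))
    fun k : s => e.symm k.1
  let φ : i.Obj →ₐ[C] Ch := e.toAlgHom.comp (of _ i)
  let _ : Algebra i.Obj Ch := φ.toRingHom.toAlgebra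
  have : IsScalarTower C i.Obj Ch := IsScalarTower.of_algebraMap_eq fun a => (φ.commutes a).symm
  have hB' := isPairHenselization_of_isNbhd hCh (A' := i.Obj) i.isNbhd
  have := i.isNbhd.etale
  let _ : Algebra A i.Obj := ((algebraMap C i.Obj).comp (algebraMap A C)).toAlgebra
  have : IsScalarTower A C i.Obj := IsScalarTower.of_algebraMap_eq fun _ => rfl
  have : Algebra.FiniteType A i.Obj := .trans (S := C) inferInstance inferInstance
  let g : Ideal i.Obj := Ideal.span (Set.range y)
  let K : Ideal i.Obj := (I.map (algebraMap A C)).map (algebraMap C i.Obj)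
  have hK : ∀ n : ℕ, K ^ n = (I ^ n).map (algebraMap A i.Obj) := fun n => by
    simp only [K]
    rw [Ideal.map_map, ← IsScalarTower.algebraMap_eq, Ideal.map_pow]
  have hmapC : ∀ n : ℕ, (K ^ n).map φ.toRingHom = (I ^ n).map (algebraMap A Ch) := fun n => by
    rw [hK, Ideal.map_map]
    congr 1
    refine RingHom.ext fun a => ?_
    show φ (algebraMap C i.Obj (algebraMap A C a)) = algebraMap A Ch a
    rw [AlgHom.commutes, ← IsScalarTower.algebraMap_apply]
  have hgJ : g.map φ.toRingHom = J := by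
    simp only [g]
    rw [Ideal.map_span, ← hs, ← Set.range_comp]
    congr 1
    ext x
    have hyv : ∀ k : s, φ (y k) = k.1 := fun k => by
      show e (of _ i (y k)) = _
      rw [hy, e.apply_symm_apply]
    constructor
    · rintro ⟨k, rfl⟩; show φ (y k) ∈ _; rw [hyv]; exact k.2
    · intro hx; exact ⟨⟨x, hx⟩, hyv ⟨x, hx⟩⟩
  let ψ : (i.Obj ⧸ g) →ₐ[A] (Ch ⧸ J) :=
    Ideal.quotientMapₐ J (φ.restrictScalars A) (Ideal.map_le_iff_le_comap.1 hgJ.le)
  have hqb := quotPow_bijective hB'
  refine ⟨i.Obj ⧸ g, inferInstance, inferInstance, inferInstance,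
    completion_equiv_of_quot_bijective ψ _ _ ?_ ?_ ?_⟩
  · rw [Ideal.map_map]
    congr 1
    exact (AlgHom.comp_algebraMap ψ).symm
  · intro n q
    obtain ⟨x, rfl⟩ := Ideal.Quotient.mk_surjective q
    obtain ⟨z, hz⟩ := (hqb n).2 (Ideal.Quotient.mk _ x)
    obtain ⟨z, rfl⟩ := Ideal.Quotient.mk_surjective z
    rw [Ideal.quotientMap_mk, Ideal.Quotient.eq] at hz
    refine ⟨Ideal.Quotient.mk _ z, ?_⟩
    have h1 : x - φ z ∈ (I ^ n).map (algebraMap A Ch) := by
      rw [← hmapC]
      rw [← neg_sub]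
      exact neg_mem hz
    rw [← Ideal.map_pow]
    have h2 := Ideal.mem_map_of_mem (Ideal.Quotient.mk J) h1
    rw [map_sub, Ideal.map_map] at h2
    exact h2
  · intro n q hq
    obtain ⟨x, rfl⟩ := Ideal.Quotient.mk_surjective q
    rw [← Ideal.map_pow] at hq ⊢
    have h0 : φ x ∈ (g ⊔ K ^ n).map φ.toRingHom := by
      rw [Ideal.map_sup, hgJ, hmapC]
      have h1 : Ideal.Quotient.mk J (φ x) ∈ ((I ^ n).map (algebraMap A Ch)).map (Ideal.Quotient.mk J) := by
        rw [Ideal.map_map]; exact hq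
      rw [Ideal.mem_map_iff_of_surjective _ Ideal.Quotient.mk_surjective] at h1
      obtain ⟨w, hw, hwx⟩ := h1
      rw [Ideal.Quotient.eq] at hwx
      have h2 := Submodule.add_mem_sup (neg_mem hwx) hw
      rwa [neg_sub, sub_add_cancel] at h2
    have h1 : x ∈ g ⊔ K ^ n := by
      have hb : Function.Bijective (Ideal.quotientMap ((K ^ n).map φ.toRingHom) φ.toRingHom
        Ideal.le_comap_map) := hqb n
      have h2 := Ideal.mem_map_of_mem (Ideal.Quotient.mk ((K ^ n).map φ.toRingHom)) h0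
      rw [Ideal.map_map, show (Ideal.Quotient.mk ((K ^ n).map φ.toRingHom)).comp φ.toRingHom =
        (Ideal.quotientMap _ φ.toRingHom Ideal.le_comap_map).comp (Ideal.Quotient.mk (K ^ n)) from
        RingHom.ext fun _ => rfl, ← Ideal.map_map,
        Ideal.mem_map_iff_of_surjective _ hb.2] at h2
      obtain ⟨q, hq1, hq2⟩ := h2
      have h3 : q = Ideal.Quotient.mk (K ^ n) x := hb.1 (by rw [hq2]; rfl)
      rw [h3, Ideal.mem_map_iff_of_surjective _ Ideal.Quotient.mk_surjective] at hq1
      obtain ⟨w, hw, hwx⟩ := hq1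
      rw [Ideal.Quotient.eq] at hwx
      have h4 := sub_mem hw (Submodule.mem_sup_right hwx : w - x ∈ g ⊔ K ^ n)
      rwa [sub_sub_cancel] at h4
    obtain ⟨a, ha, b, hb, rfl⟩ := Submodule.mem_sup.1 h1
    rw [map_add, Ideal.Quotient.eq_zero_iff_mem.2 ha, zero_add]
    rw [hK] at hb
    have h5 := Ideal.mem_map_of_mem (Ideal.Quotient.mk g) hb
    rwa [Ideal.map_map] at h5

end Groth.Misc12.HensQuot
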